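import Cfsg.Agent.H65.Twist.F4
import Cfsg.Agent.H65.Twist.Transfer
import Mathlib.GroupTheory.SpecificGroups.Dihedral

/-!
Structure of the twisted groups of type F₄: class groups, diagonal part, Weyl group and order.
-/

set_option autoImplicit false
set_option linter.unusedSectionVars false
set_option maxRecDepth 100000

open Cfsg.Lie Cfsg.Agent.H46
open scoped Matrix MatrixGroups

namespace Cfsg.Agent.H65.Twist

variable {K : Type*} [Field K] [Fintype K] [CharP K 2] {m : ℕ}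

theorem pairU_class (t : K) : (pairU K m t : GL chevF4.Idx K) ∈
    goodF4.posSub {r | chevF4.IsPosRoot r ∧ chevF4.InRootSub {i | i ∈ f4Jl 0} r} :=
  mul_mem (class_mem_posSub (r := 33) (by simp [f4Cls]) (by decide +kernel) _)
    (class_mem_posSub (r := 24) (by simp [f4Cls]) (by decide +kernel) _)

theorem b2U_class (t u : K) : (b2U K m t u : GL chevF4.Idx K) ∈
    goodF4.posSub {r | chevF4.IsPosRoot r ∧ chevF4.InRootSub {i | i ∈ f4Jl 1} r} :=
  mul_mem (mul_mem (mul_mem (class_mem_posSub (r := 27) (by simp [f4Cls]) (by decide +kernel) _)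
    (class_mem_posSub (r := 25) (by simp [f4Cls]) (by decide +kernel) _))
    (class_mem_posSub (r := 28) (by simp [f4Cls]) (by decide +kernel) _))
    (class_mem_posSub (r := 30) (by simp [f4Cls]) (by decide +kernel) _)

theorem pairU_X1 (hK : Fintype.card K = 2 ^ (2 * m + 1)) (t : K) :
    pairU K m t ∈ (f4Setup K hK).data.X1 0 :=
  (f4Setup K hK).mem_X1.2 ⟨pairU_class t, (f4Tau_rules hK t 0).1⟩

theorem b2U_X1 (hK : Fintype.card K = 2 ^ (2 * m + 1)) (t u : K) :
    b2U K m t u ∈ (f4Setup K hK).data.X1 1 :=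
  (f4Setup K hK).mem_X1.2 ⟨b2U_class t u, (f4Tau_rules hK t u).2.2.1⟩

theorem pairU_mem_U1 (hK : Fintype.card K = 2 ^ (2 * m + 1)) (t : K) :
    pairU K m t ∈ (f4Setup K hK).data.U1 :=
  (f4Setup K hK).mem_U1.2 ⟨goodF4.posSub_le_posUnipotent _ (pairU_class t), (f4Tau_rules hK t 0).1⟩

theorem b2U_mem_U1 (hK : Fintype.card K = 2 ^ (2 * m + 1)) (t u : K) :
    b2U K m t u ∈ (f4Setup K hK).data.U1 :=
  (f4Setup K hK).mem_U1.2 ⟨goodF4.posSub_le_posUnipotent _ (b2U_class t u), (f4Tau_rules hK t u).2.2.1⟩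

/-- The weights of the classes. -/
def f4Len : Fin 2 → ℕ := fun j => j.val + 1

theorem card_f4X1 (hK : Fintype.card K = 2 ^ (2 * m + 1)) (j : Fin 2) :
    Nat.card ↥((f4Setup K hK).data.X1 j) = Fintype.card K ^ f4Len j := by
  obtain rfl | rfl : j = 0 ∨ j = 1 := by omega
  · have hb : Function.Bijective (fun t : K =>
        (⟨pairU K m t, pairU_X1 hK t⟩ : ↥((f4Setup K hK).data.X1 0))) := by
      refine ⟨fun t t' h => pairU_injective (congrArg Subtype.val h), fun x => ?_⟩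
      obtain ⟨hx, hf⟩ := (f4Setup K hK).mem_X1.1 x.2
      obtain ⟨t, e⟩ := fixed_classA hK hx hf
      exact ⟨t, Subtype.ext e.symm⟩
    rw [← Nat.card_congr (Equiv.ofBijective _ hb), Nat.card_eq_fintype_card]
    exact (pow_one _).symm
  · have hb : Function.Bijective (fun p : K × K =>
        (⟨b2U K m p.1 p.2, b2U_X1 hK p.1 p.2⟩ : ↥((f4Setup K hK).data.X1 1))) := by
      refine ⟨fun p p' h => ?_, fun x => ?_⟩
      · obtain ⟨h1, h2⟩ := b2U_injective (congrArg Subtype.val h)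
        exact Prod.ext h1 h2
      · obtain ⟨hx, hf⟩ := (f4Setup K hK).mem_X1.1 x.2
        obtain ⟨t, u, e⟩ := fixed_classB hK hx hf
        exact ⟨(t, u), Subtype.ext e.symm⟩
    rw [← Nat.card_congr (Equiv.ofBijective _ hb), Nat.card_prod, Nat.card_eq_fintype_card]
    exact (pow_two _).symm

theorem f4_hne (hK : Fintype.card K = 2 ^ (2 * m + 1)) (j : Fin 2) :
    ∃ x ∈ (f4Setup K hK).data.X1 j, x ≠ 1 := by
  have h := card_f4X1 hK j
  have h2 : 1 < Fintype.card K ^ f4Len j := Nat.one_lt_pow (by simp [f4Len]) Fintype.one_lt_card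
  by_contra hc
  push Not at hc
  rw [show (f4Setup K hK).data.X1 j = ⊥ from (Subgroup.eq_bot_iff_forall _).2 hc, Subgroup.card_bot] at h
  omega

theorem f4_hinj (hK : Fintype.card K = 2 ^ (2 * m + 1)) (i j : Fin 2)
    (h : ((f4Setup K hK).data.nS i)⁻¹ * (f4Setup K hK).data.nS j ∈ (f4Setup K hK).data.H) : i = j := by
  have hn : ∀ j, (f4N K j : GL chevF4.Idx K) ∈ chevF4.monomialSubgroup K := fun _ => goodF4.nProd_mem _
  have h1 : goodF4.perm ((f4N K i : GL chevF4.Idx K)⁻¹ * (f4N K j : GL chevF4.Idx K)) = 1 :=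
    goodF4.perm_diagonal h
  rw [goodF4.perm_mul (inv_mem (hn i)) (hn j), goodF4.perm_inv (hn i), inv_mul_eq_one] at h1
  have key : ∀ i j : Fin 2, f4Wn i 33 = f4Wn j 33 → i = j := by decide +kernel
  refine key i j ?_
  have h2 := congrArg Fin.val (f4N_perm (K := K) i ⟨33, by decide +kernel⟩)
  rw [h1, f4N_perm] at h2
  exact h2.symm

/-! ### The diagonal group -/

theorem f4_simple_facts : chevF4.simple 0 = 33 ∧ chevF4.simple 1 = 27 ∧ chevF4.simple 2 = 25 ∧
    chevF4.simple 3 = 24 ∧ chevF4.rank = 4 ∧ chevF4.neg 33 = 14 ∧ chevF4.neg 27 = 20 ∧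
    (∀ k, goodF4.rc 34 k = (1 : ℤ) * goodF4.rc 33 k + (1 : ℤ) * goodF4.rc 27 k) ∧
    (∀ k, goodF4.rc 28 k = (1 : ℤ) * goodF4.rc 27 k + (1 : ℤ) * goodF4.rc 25 k) ∧
    (∀ k, goodF4.rc 30 k = (2 : ℤ) * goodF4.rc 27 k + (1 : ℤ) * goodF4.rc 25 k) ∧
    (∀ k, goodF4.rc 37 k = (1 : ℤ) * goodF4.rc 33 k + (1 : ℤ) * goodF4.rc 30 k) ∧
    (∀ j : Fin 2, f4Wn j 33 = [14, 37].getD j.val 0 ∧ f4Wn j 27 = [34, 20].getD j.val 0) := by
  decide +kernel

theorem f4_val_neg {z : Fin chevF4.rank → Kˣ} :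
    goodF4.torusVal z 14 = (goodF4.torusVal z 33)⁻¹ ∧ goodF4.torusVal z 20 = (goodF4.torusVal z 27)⁻¹ := by
  obtain ⟨-, -, -, -, -, n0, n1, -⟩ := f4_simple_facts
  exact ⟨by rw [← n0, goodF4.torusVal_neg (by decide +kernel)], by rw [← n1, goodF4.torusVal_neg (by decide +kernel)]⟩

theorem f4_val_sum {z : Fin chevF4.rank → Kˣ} :
    goodF4.torusVal z 34 = goodF4.torusVal z 33 * goodF4.torusVal z 27 ∧
    goodF4.torusVal z 28 = goodF4.torusVal z 27 * goodF4.torusVal z 25 ∧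
    goodF4.torusVal z 30 = goodF4.torusVal z 27 ^ 2 * goodF4.torusVal z 25 ∧
    goodF4.torusVal z 37 = goodF4.torusVal z 33 * goodF4.torusVal z 30 := by
  obtain ⟨-, -, -, -, -, -, -, e34, e28, e30, e37, -⟩ := f4_simple_facts
  refine ⟨?_, ?_, ?_, ?_⟩
  · rw [goodF4.torusVal_add (r := 33) (s := 27) (u := 34) z 1 1 (funext e34), zpow_one, zpow_one]
  · rw [goodF4.torusVal_add (r := 27) (s := 25) (u := 28) z 1 1 (funext e28), zpow_one, zpow_one]
  · rw [goodF4.torusVal_add (r := 27) (s := 25) (u := 30) z 2 1 (funext e30), zpow_one, zpow_two, pow_two]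
  · rw [goodF4.torusVal_add (r := 33) (s := 30) (u := 37) z 1 1 (funext e37), zpow_one, zpow_one]

/-- Fixed diagonal elements, by their values on the fundamental roots. -/
theorem torus_fixed_f4 (hK : Fintype.card K = 2 ^ (2 * m + 1)) (z : Fin chevF4.rank → Kˣ) :
    f4Tau K m (torusE goodF4 z) = torusE goodF4 z ↔
      (goodF4.torusVal z 24 : K) = iterateFrobenius K 2 (m + 1) (goodF4.torusVal z 33 : K) ∧
        (goodF4.torusVal z 25 : K) = iterateFrobenius K 2 (m + 1) (goodF4.torusVal z 27 : K) := by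
  obtain ⟨s0, s1, s2, s3, hr, -⟩ := f4_simple_facts
  obtain ⟨w, hw⟩ := goodF4.mem_diagonal.1 ((f4Endo K m).τ_diag (g := torusE goodF4 z) (goodF4.mem_diagonal.2 ⟨z, rfl⟩))
  have hw' : (f4Endo K m).τ (torusE goodF4 z) = torusE goodF4 w := Subtype.ext hw
  have key : ∀ r s e : ℕ, (r, s, e) ∈ [(33, 24, 2), (24, 33, 1), (27, 25, 2), (25, 27, 1)] →
      (goodF4.torusVal w s : K) =
        (if e = 1 then iterateFrobenius K 2 m else iterateFrobenius K 2 (m + 1)) (goodF4.torusVal z r : K) := by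
    intro r s e h
    obtain ⟨hlt, e1, e2⟩ := f4_images (r, s, e) (by
      simp only [List.mem_cons, List.not_mem_nil, or_false] at h ⊢
      rcases h with h | h | h | h <;> simp [h])
    have h1 := (f4Endo K m).torusVal_τ hw' ⟨r, hlt⟩
    rw [show (((f4Endo K m).ρ ⟨r, hlt⟩)).val = s from e1] at h1
    rw [h1]
    show f4Phi K m ⟨r, hlt⟩ _ = _
    rw [f4Phi, e2]
  have w24 := key 33 24 2 (by simp)
  have w33 := key 24 33 1 (by simp)
  have w25 := key 27 25 2 (by simp)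
  have w27 := key 25 27 1 (by simp)
  simp only [if_neg (show ¬ (2 = 1) by omega), if_true] at w24 w33 w25 w27
  show (f4Endo K m).τ (torusE goodF4 z) = torusE goodF4 z ↔ _
  rw [hw']
  constructor
  · intro h
    have h' : goodF4.torus w = goodF4.torus z := congrArg Subtype.val h
    have e2 := (torus_eq_iff goodF4).1 h' ⟨2, by omega⟩
    have e3 := (torus_eq_iff goodF4).1 h' ⟨3, by omega⟩
    simp only [s2, s3] at e2 e3
    exact ⟨by rw [← e3, w24], by rw [← e2, w25]⟩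
  · rintro ⟨h24, h25⟩
    refine Subtype.ext ((torus_eq_iff goodF4).2 fun i => ?_)
    have h := i.2
    obtain e | e | e | e : i.val = 0 ∨ i.val = 1 ∨ i.val = 2 ∨ i.val = 3 := by omega
    all_goals rw [e]
    · rw [s0]; exact Units.ext (by rw [w33, h24, (f4_frob hK _).2])
    · rw [s1]; exact Units.ext (by rw [w27, h25, (f4_frob hK _).2])
    · rw [s2]; exact Units.ext (by rw [w25, h25])
    · rw [s3]; exact Units.ext (by rw [w24, h24])

theorem f4_exists_fixed (hK : Fintype.card K = 2 ^ (2 * m + 1)) (a b : Kˣ) :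
    ∃ z, goodF4.torusVal z 33 = a ∧ goodF4.torusVal z 27 = b ∧
      f4Tau K m (torusE goodF4 z) = torusE goodF4 z := by
  obtain ⟨s0, s1, s2, s3, hr, -⟩ := f4_simple_facts
  obtain ⟨z, hz⟩ := exists_torusVal goodF4 (F := K) unimod_F4
    (fun i => [a, b, b ^ (2 ^ (m + 1)), a ^ (2 ^ (m + 1))].getD i.val 1)
  have h0 := hz ⟨0, by omega⟩
  have h1 := hz ⟨1, by omega⟩
  have h2 := hz ⟨2, by omega⟩
  have h3 := hz ⟨3, by omega⟩
  simp only [s0, s1, s2, s3, List.getD_cons_zero, List.getD_cons_succ] at h0 h1 h2 h3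
  refine ⟨z, h0, h1, (torus_fixed_f4 hK z).2 ⟨?_, ?_⟩⟩
  · rw [h3, h0, iterateFrobenius_def, Units.val_pow_eq_pow_val]
  · rw [h2, h1, iterateFrobenius_def, Units.val_pow_eq_pow_val]

theorem f4_fixed_ext (hK : Fintype.card K = 2 ^ (2 * m + 1)) {z w : Fin chevF4.rank → Kˣ}
    (hz : f4Tau K m (torusE goodF4 z) = torusE goodF4 z) (hw : f4Tau K m (torusE goodF4 w) = torusE goodF4 w)
    (h0 : goodF4.torusVal z 33 = goodF4.torusVal w 33) (h1 : goodF4.torusVal z 27 = goodF4.torusVal w 27) :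
    torusE goodF4 z = torusE goodF4 w := by
  obtain ⟨s0, s1, s2, s3, hr, -⟩ := f4_simple_facts
  refine Subtype.ext ((torus_eq_iff goodF4).2 fun i => ?_)
  have h := i.2
  obtain e | e | e | e : i.val = 0 ∨ i.val = 1 ∨ i.val = 2 ∨ i.val = 3 := by omega
  all_goals rw [e]
  · rw [s0]; exact h0
  · rw [s1]; exact h1
  · rw [s2]; exact Units.ext (by rw [((torus_fixed_f4 hK z).1 hz).2, ((torus_fixed_f4 hK w).1 hw).2, h1])
  · rw [s3]; exact Units.ext (by rw [((torus_fixed_f4 hK z).1 hz).1, ((torus_fixed_f4 hK w).1 hw).1, h0])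

/-- The elements `h · ⁿh⁻¹` of the twisted diagonal group. -/
theorem f4_twist_val (hK : Fintype.card K = 2 ^ (2 * m + 1)) (j : Fin 2) {z : Fin chevF4.rank → Kˣ}
    (hz : f4Tau K m (torusE goodF4 z) = torusE goodF4 z) :
    ∃ w, torusE goodF4 w ∈ (f4Setup K hK).data.H0 ∧
      goodF4.torusVal w 33 = goodF4.torusVal z 33 * (goodF4.torusVal z (f4Wn j 33))⁻¹ ∧
      goodF4.torusVal w 27 = goodF4.torusVal z 27 * (goodF4.torusVal z (f4Wn j 27))⁻¹ := by
  have hn : (f4N K j : GL chevF4.Idx K) ∈ chevF4.monomialSubgroup K := goodF4.nProd_mem _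
  obtain ⟨v, hv⟩ := goodF4.mem_diagonal.1 (goodF4.diagonal_normalized hn
    (goodF4.mem_diagonal.2 ⟨z⁻¹, rfl⟩))
  refine ⟨z * v, ?_, ?_⟩
  · have h := (f4Setup K hK).twist_mem_H0 j (f4_hne hK j) (h := torusE goodF4 z)
      (goodF4.mem_diagonal.2 ⟨z, rfl⟩) hz
    have e : torusE goodF4 (z * v) =
        torusE goodF4 z * (f4N K j * (torusE goodF4 z)⁻¹ * (f4N K j)⁻¹) := by
      apply Subtype.ext
      show goodF4.torus (z * v) = goodF4.torus z * ((f4N K j : GL chevF4.Idx K) * (goodF4.torus z)⁻¹ * _⁻¹)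
      rw [map_mul, ← map_inv, ← hv]
    rw [e]
    exact h
  · have key : ∀ r : ℕ, r < chevF4.nroots →
        goodF4.torusVal (z * v) r = goodF4.torusVal z r * (goodF4.torusVal z (f4Wn j r))⁻¹ := by
      intro r hr
      rw [goodF4.torusVal_mul]
      congr 1
      have h1 := torusVal_conj goodF4 hn hv (f4WJ j ⟨r, hr⟩)
      rw [f4N_perm, f4_facts.invol] at h1
      refine h1.trans ?_
      refine eq_inv_of_mul_eq_one_left ?_
      show goodF4.torusVal z⁻¹ (f4Wn j r) * _ = 1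
      rw [← goodF4.torusVal_mul, inv_mul_cancel, goodF4.torusVal_one]
    exact ⟨key 33 (by decide +kernel), key 27 (by decide +kernel)⟩

theorem f4_fixed_diag_mem (hK : Fintype.card K = 2 ^ (2 * m + 1)) {h : ↥(chevF4.group K)}
    (hh : (h : GL chevF4.Idx K) ∈ chevF4.diagonalSubgroup K) (hfix : f4Tau K m h = h) :
    h ∈ (f4Setup K hK).data.H0 := by
  classical
  obtain ⟨-, -, -, -, -, -, -, -, -, -, -, hw⟩ := f4_simple_facts
  obtain ⟨z, hz⟩ := goodF4.mem_diagonal.1 hh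
  obtain rfl : h = torusE goodF4 z := Subtype.ext hz
  set a := goodF4.torusVal z 33 with ha
  set b := goodF4.torusVal z 27 with hb
  -- the exponent `2 ^ (m + 1) - 2` is invertible modulo the order of the units
  have hcop : Nat.Coprime (Nat.card Kˣ) (2 * (2 ^ m - 1)) := by
    rw [Nat.card_units, Nat.card_eq_fintype_card, hK]
    refine Nat.Coprime.mul_right ?_ ?_
    · rw [Nat.coprime_comm, Nat.Prime.coprime_iff_not_dvd Nat.prime_two]
      have : 2 ^ (2 * m + 1) = 2 * 2 ^ (2 * m) := pow_succ' 2 _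
      have : 0 < 2 ^ (2 * m) := by positivity
      omega
    · rw [Nat.Coprime, Nat.pow_sub_one_gcd_pow_sub_one]
      rw [show Nat.gcd (2 * m + 1) m = 1 by
        rw [show 2 * m + 1 = 1 + m * 2 by ring, Nat.gcd_add_mul_left_left, Nat.gcd_one_left]]
      norm_num
  obtain ⟨y, hy⟩ := (powCoprime hcop).surjective ((a * b ^ 2)⁻¹)
  rw [powCoprime_apply] at hy
  obtain ⟨p, hp33, hp27, hpf⟩ := f4_exists_fixed hK (y ^ 2 * b⁻¹) 1
  obtain ⟨q, hq33, hq27, hqf⟩ := f4_exists_fixed hK 1 y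
  obtain ⟨v, hvH, hv33, hv27⟩ := f4_twist_val hK 0 hpf
  obtain ⟨w, hwH, hw33, hw27⟩ := f4_twist_val hK 1 hqf
  have hprod : torusE goodF4 (v * w) = torusE goodF4 v * torusE goodF4 w := Subtype.ext (map_mul _ _ _)
  have hmem : torusE goodF4 (v * w) ∈ (f4Setup K hK).data.H0 := hprod ▸ mul_mem hvH hwH
  have hy25 : goodF4.torusVal q 25 = y ^ (2 ^ (m + 1)) := Units.ext (by
    rw [((torus_fixed_f4 hK q).1 hqf).2, hq27, iterateFrobenius_def, Units.val_pow_eq_pow_val])
  simp only [(hw 0).1, (hw 0).2, Fin.val_zero, List.getD_cons_zero] at hv33 hv27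
  simp only [(hw 1).1, (hw 1).2, Fin.val_one, List.getD_cons_succ, List.getD_cons_zero] at hw33 hw27
  rw [f4_val_neg.1, hp33, inv_inv] at hv33
  rw [f4_val_sum.1, hp33, hp27, mul_one, one_mul] at hv27
  rw [f4_val_sum.2.2.2, f4_val_sum.2.2.1, hq33, hq27, hy25, one_mul, one_mul] at hw33
  rw [f4_val_neg.2, hq27, inv_inv] at hw27
  rw [f4_fixed_ext hK hfix ((f4Setup K hK).W_fixed _ hmem.2) ?_ ?_]
  · exact hmem
  · rw [goodF4.torusVal_mul, hv33, hw33, ← ha]
    have h1 : a = (y ^ (2 * (2 ^ m - 1)))⁻¹ * (b ^ 2)⁻¹ := by rw [hy, inv_inv, mul_inv_cancel_right]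
    have h2 : y ^ (2 * (2 ^ m - 1)) * y ^ 2 = y ^ (2 ^ (m + 1)) := by
      rw [← pow_add, ← Nat.mul_succ, Nat.succ_eq_add_one, Nat.sub_add_cancel Nat.one_le_two_pow, ← pow_succ']
    rw [h1, ← h2, ← pow_two (y ^ 2 * b⁻¹), mul_pow, inv_pow]
    apply Units.ext
    push_cast
    field_simp
  · rw [goodF4.torusVal_mul, hv27, hw27, ← hb]
    apply Units.ext
    push_cast
    field_simp

theorem card_f4H0 (hK : Fintype.card K = 2 ^ (2 * m + 1)) :
    Nat.card ↥(f4Setup K hK).data.H0 = (Fintype.card K - 1) ^ 2 := by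
  classical
  let z : Kˣ × Kˣ → (Fin chevF4.rank → Kˣ) := fun c => (f4_exists_fixed hK c.1 c.2).choose
  have hz : ∀ c : Kˣ × Kˣ, goodF4.torusVal (z c) 33 = c.1 ∧ goodF4.torusVal (z c) 27 = c.2 ∧
      f4Tau K m (torusE goodF4 (z c)) = torusE goodF4 (z c) := fun c => (f4_exists_fixed hK c.1 c.2).choose_spec
  have hb : Function.Bijective (fun c : Kˣ × Kˣ => (⟨torusE goodF4 (z c),
      f4_fixed_diag_mem hK (goodF4.mem_diagonal.2 ⟨_, rfl⟩) (hz c).2.2⟩ : ↥(f4Setup K hK).data.H0)) := by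
    refine ⟨fun c d h => ?_, fun x => ?_⟩
    · have e : goodF4.torus (z c) = goodF4.torus (z d) := congrArg Subtype.val (congrArg Subtype.val h)
      obtain ⟨s0, s1, -, -, hr, -⟩ := f4_simple_facts
      have e0 := (torus_eq_iff goodF4).1 e ⟨0, by omega⟩
      have e1 := (torus_eq_iff goodF4).1 e ⟨1, by omega⟩
      simp only [s0, s1, (hz c).1, (hz c).2.1, (hz d).1, (hz d).2.1] at e0 e1
      exact Prod.ext e0 e1
    · obtain ⟨w, hw⟩ := goodF4.mem_diagonal.1 (Subgroup.mem_subgroupOf.1 (Subgroup.mem_inf.1 x.2).1)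
      have e : x.1 = torusE goodF4 w := Subtype.ext hw
      refine ⟨(goodF4.torusVal w 33, goodF4.torusVal w 27), Subtype.ext ?_⟩
      show torusE goodF4 (z _) = x.1
      rw [e]
      exact f4_fixed_ext hK (hz _).2.2 (e ▸ (f4Setup K hK).W_fixed _ (Subgroup.mem_inf.1 x.2).2) (hz _).1 (hz _).2.1
  rw [← Nat.card_congr (Equiv.ofBijective _ hb), Nat.card_prod, Nat.card_units, Nat.card_eq_fintype_card, sq]

/-! ### The Weyl group -/

/-- The word of an element of the dihedral group. -/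
def f4Word : DihedralGroup 8 → List (Fin 2)
  | .r i => [[], [1, 0], [1, 0, 1, 0], [1, 0, 1, 0, 1, 0], [1, 0, 1, 0, 1, 0, 1, 0], [0, 1, 0, 1, 0, 1],
      [0, 1, 0, 1], [0, 1]].getD i.val []
  | .sr i => [[0], [1], [1, 0, 1], [1, 0, 1, 0, 1], [1, 0, 1, 0, 1, 0, 1], [0, 1, 0, 1, 0, 1, 0],
      [0, 1, 0, 1, 0], [0, 1, 0]].getD i.val []

/-- The generators of the dihedral group. -/
def f4Gen (j : Fin 2) : DihedralGroup 8 := DihedralGroup.sr j.val

theorem f4_closed : ∀ (d : DihedralGroup 8) (j : Fin 2), ∀ r : Fin chevF4.nroots,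
    appR f4Wn (j :: f4Word d) r = appR f4Wn (f4Word (d * f4Gen j)) r := by decide +kernel

theorem f4_word_inj : ∀ d : DihedralGroup 8, (∀ r : Fin chevF4.nroots, appR f4Wn (f4Word d) r = r.val) → d = 1 := by
  decide +kernel

theorem f4_word_desc : ∀ d : DihedralGroup 8,
    chkDesc f4Wn (fun j => (f4Rep j).val) (chevF4.nroots / 2) (f4Word d) = true := by decide +kernel

variable (K) in
/-- The table of the twisted Weyl group. -/
noncomputable def f4Table (hK : Fintype.card K = 2 ^ (2 * m + 1)) : WeylTable (f4Setup K hK) (DihedralGroup 8) where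
  wn := f4Wn
  hwn _ _ := rfl
  word := f4Word
  gen := f4Gen
  word_one := rfl
  closed := f4_closed
  inj := f4_word_inj
  desc := f4_word_desc

theorem f4_top : ∀ r : Fin chevF4.nroots, chevF4.IsPosRoot r.val →
    appR f4Wn (f4Word (DihedralGroup.r 4)) r.val < chevF4.nroots / 2 := by decide +kernel

theorem card_f4U1 (hK : Fintype.card K = 2 ^ (2 * m + 1)) :
    Nat.card ↥(f4Setup K hK).data.U1 = Fintype.card K ^ 12 :=
  (f4Table K hK).card_U1 (Fintype.card K) f4Len (card_f4X1 hK) (f4Word (DihedralGroup.r 4)) (f4_word_desc _) f4_top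

theorem f4_lengths : (Finset.univ : Finset (DihedralGroup 8)).val.map (fun d => ((f4Word d).map f4Len).sum) =
    ↑([0, 1, 2, 3, 3, 4, 5, 6, 6, 7, 8, 9, 9, 10, 11, 12] : List ℕ) := by decide +kernel

theorem f4_poincare (q : ℕ) : ∑ d : DihedralGroup 8, q ^ ((f4Word d).map f4Len).sum =
    (1 + q) * (1 + q ^ 2) * (1 + q ^ 3) * (1 + q ^ 6) := by
  rw [show (∑ d : DihedralGroup 8, q ^ ((f4Word d).map f4Len).sum) =
    (((Finset.univ : Finset (DihedralGroup 8)).val.map fun d => ((f4Word d).map f4Len).sum).map (q ^ ·)).sum by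
      rw [Multiset.map_map]; rfl, f4_lengths, Multiset.map_coe, Multiset.sum_coe]
  simp only [List.map_cons, List.map_nil, List.sum_cons, List.sum_nil]
  ring

theorem card_f4G1 (hK : Fintype.card K = 2 ^ (2 * m + 1)) :
    Nat.card ↥(f4Setup K hK).data.G1 = Fintype.card K ^ 12 * (Fintype.card K - 1) * (Fintype.card K ^ 3 + 1) *
      (Fintype.card K ^ 4 - 1) * (Fintype.card K ^ 6 + 1) := by
  have : Finite ↥(f4Setup K hK).data.G1 := inferInstance
  rw [(f4Table K hK).card_G1 (Fintype.card K) f4Len (card_f4X1 hK), card_f4U1, card_f4H0,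
    show (f4Table K hK).word = f4Word from rfl, f4_poincare]
  obtain ⟨n, hn⟩ : ∃ n, Fintype.card K = n + 1 := ⟨Fintype.card K - 1, by have := Fintype.card_pos (α := K); omega⟩
  rw [hn, Nat.add_sub_cancel]
  have h4 : (n + 1) ^ 4 - 1 = n * ((n + 1) ^ 3 + (n + 1) ^ 2 + (n + 1) + 1) := by
    have : (n + 1) ^ 4 = n * ((n + 1) ^ 3 + (n + 1) ^ 2 + (n + 1) + 1) + 1 := by ring
    omega
  rw [h4]
  ring

end Cfsg.Agent.H65.Twist
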